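import Cfsg.Agent.H901.KKL.NoCfg
import Cfsg.Agent.LieClassical.SympCenter
import Cfsg.Prelude.Def_CaseTheorems

/-!
# S4546, row `PSp_2m(q)`, `q` odd (helper55)
-/

set_option autoImplicit false

open Cfsg Cfsg.Agent.H613.KKL Cfsg.Agent.H901.KKL Matrix

namespace Cfsg.Agent.H55.KKL

variable {F : Type} [Field F]

/-- the embedding of the symplectic group in the group of units -/
def fi (m : ℕ) (F : Type) [Field F] :
    Matrix.symplecticGroup (Fin m) F →* (Matrix (Fin m ⊕ Fin m) (Fin m ⊕ Fin m) F)ˣ :=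
  (Units.map (Matrix.symplecticGroup (Fin m) F).subtype).comp
    (toUnits : Matrix.symplecticGroup (Fin m) F ≃* (Matrix.symplecticGroup (Fin m) F)ˣ).toMonoidHom

theorem fi_val {m : ℕ} (A : Matrix.symplecticGroup (Fin m) F) :
    (fi m F A : Matrix (Fin m ⊕ Fin m) (Fin m ⊕ Fin m) F) = A.1 := rfl

/-- the adjoint with respect to the alternating form -/
def sig (m : ℕ) (F : Type) [Field F] :
    Matrix (Fin m ⊕ Fin m) (Fin m ⊕ Fin m) F →+ Matrix (Fin m ⊕ Fin m) (Fin m ⊕ Fin m) F where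
  toFun M := (-J (Fin m) F) * Mᵀ * J (Fin m) F
  map_zero' := by rw [transpose_zero, Matrix.mul_zero, Matrix.zero_mul]
  map_add' M N := by rw [transpose_add, Matrix.mul_add, Matrix.add_mul]

theorem sig_apply {m : ℕ} (M : Matrix (Fin m ⊕ Fin m) (Fin m ⊕ Fin m) F) :
    sig m F M = (-J (Fin m) F) * Mᵀ * J (Fin m) F := rfl

theorem E_psp [Fintype F] {p : ℕ} [Fact p.Prime] [CharP F p] (hp : p ≠ 2) (m : ℕ) (hm : 2 ≤ m) :
    NoCfg (PSp m F) := by
  have hne : Nonempty (Fin m) := ⟨⟨0, by omega⟩⟩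
  have hcyc : IsCyclic (QuotientGroup.mk' (Subgroup.center (Matrix.symplecticGroup (Fin m) F))).ker := by
    rw [QuotientGroup.ker_mk']
    have h1 := LieClassical.SympCenter.card_center (F := F) (m := m) (by omega)
    have h2 : Nat.gcd 2 (Fintype.card F - 1) ∣ 2 := Nat.gcd_dvd_left _ _
    rcases (Nat.dvd_prime Nat.prime_two).1 h2 with h3 | h3
    · rw [h3] at h1
      have := (Nat.card_eq_one_iff_unique.1 h1).1
      infer_instance
    · rw [h3] at h1
      have : Fact (Nat.Prime 2) := ⟨Nat.prime_two⟩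
      exact isCyclic_of_prime_card h1
  refine noCfg_of_norm (R := Matrix (Fin m ⊕ Fin m) (Fin m ⊕ Fin m) F) hp (X := Matrix.symplecticGroup (Fin m) F)
    (π := QuotientGroup.mk' (Subgroup.center (Matrix.symplecticGroup (Fin m) F)))
    (QuotientGroup.mk'_surjective _) (by rw [QuotientGroup.ker_mk']) hcyc (fi m F) ?_ ?_
  · intro a b hab
    apply Subtype.ext
    exact congrArg (fun u : (Matrix (Fin m ⊕ Fin m) (Fin m ⊕ Fin m) F)ˣ => (u : Matrix (Fin m ⊕ Fin m) (Fin m ⊕ Fin m) F)) hab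
  · intro D₀ h8 _ e he2 he g
    have hJ : J (Fin m) F * J (Fin m) F = -1 := J_squared (Fin m) F
    have hs := star_eq (fi m F) (sig m F) (fun a b => by
        rw [sig_apply, sig_apply, sig_apply, transpose_mul]
        calc -J (Fin m) F * (bᵀ * aᵀ) * J (Fin m) F = -J (Fin m) F * bᵀ * (-(-1)) * aᵀ * J (Fin m) F := by
              rw [neg_neg, Matrix.mul_one]
              simp only [Matrix.mul_assoc]
          _ = (-J (Fin m) F * bᵀ * J (Fin m) F) * (-J (Fin m) F * aᵀ * J (Fin m) F) := by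
              rw [← hJ]
              simp only [Matrix.mul_assoc, Matrix.neg_mul, Matrix.mul_neg])
      (by rw [sig_apply, transpose_one, Matrix.mul_one, Matrix.neg_mul, hJ, neg_neg]) h8
      (fun d _ => by
        rw [sig_apply, ← map_inv, fi_val, fi_val, SymplecticGroup.coe_inv]) he
    rw [sig_apply] at hs
    have h1 : (e : Matrix (Fin m ⊕ Fin m) (Fin m ⊕ Fin m) F) * J (Fin m) F = J (Fin m) F * (e : Matrix _ _ F)ᵀ := by
      conv_lhs => rw [← hs]
      rw [Matrix.mul_assoc, hJ, Matrix.mul_neg, Matrix.mul_one, Matrix.neg_mul, neg_neg]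
    have h2 : (e : Matrix (Fin m ⊕ Fin m) (Fin m ⊕ Fin m) F) * e = 1 := by
      rw [← Units.val_mul, he2, Units.val_one]
    have h3 : (e : Matrix (Fin m ⊕ Fin m) (Fin m ⊕ Fin m) F) ∈ symplecticGroup (Fin m) F := by
      rw [SymplecticGroup.mem_iff, h1, Matrix.mul_assoc, ← transpose_mul, h2, transpose_one, Matrix.mul_one]
    have h4 : fi m F ⟨_, h3⟩ = e := Units.ext rfl
    exact ⟨⟨_, h3⟩ * g * ⟨_, h3⟩⁻¹, by rw [map_mul, map_mul, map_inv, h4]⟩

end Cfsg.Agent.H55.KKL
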